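import Cfsg.Agent.Lib.Helper35.HeOrd.X0.Chk0

namespace Cfsg.Agent.Lib.Helper35.HeOrd.X0

open Cfsg.Agent.Lib.Helper35

noncomputable def reach0 : ReachData He2058.pt 2057 [[0], [1], [2], [3], [4], [5], [6], [0], [2], [3], [4], [5], [0, 1, 0, 1], [1, 2, 3, 4, 1, 2, 3, 4, 1, 2, 3, 4, 1, 2, 3, 4, 1, 2, 3, 4, 1, 2, 3, 4, 1, 2, 3, 4]] 0 2058 where
  sl := sl0
  hsl := rfl
  ot := ot0
  big := 17
  hchk := q0u0
  hcnt := m0n0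
theorem fix0 : ∀ s ∈ ([[0], [2], [3], [4], [5], [0, 1, 0, 1], [1, 2, 3, 4, 1, 2, 3, 4, 1, 2, 3, 4, 1, 2, 3, 4, 1, 2, 3, 4, 1, 2, 3, 4, 1, 2, 3, 4]] : List (List Nat)), pwalk He2058.pt s 0 = 0 := by decide +kernel
noncomputable def reach1 : ReachData He2058.pt 2057 [[0], [2], [3], [4], [5], [0, 1, 0, 1], [1, 2, 3, 4, 1, 2, 3, 4, 1, 2, 3, 4, 1, 2, 3, 4, 1, 2, 3, 4, 1, 2, 3, 4, 1, 2, 3, 4]] 1 1360 where
  sl := sl1
  hsl := rfl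
  ot := ot1
  big := 17
  hchk := q1u0
  hcnt := m1n0
theorem fix1 : ∀ s ∈ ([[0], [3], [4], [5], [0, 1, 0, 1], [1, 2, 3, 4, 1, 2, 3, 4, 1, 2, 3, 4, 1, 2, 3, 4, 1, 2, 3, 4, 1, 2, 3, 4, 1, 2, 3, 4]] : List (List Nat)), pwalk He2058.pt s 1 = 1 := by decide +kernel
noncomputable def reach2 : ReachData He2058.pt 2057 [[0], [3], [4], [5], [0, 1, 0, 1], [1, 2, 3, 4, 1, 2, 3, 4, 1, 2, 3, 4, 1, 2, 3, 4, 1, 2, 3, 4, 1, 2, 3, 4, 1, 2, 3, 4], [0], [0, 1, 0, 1, 4]] 15 360 where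
  sl := sl2
  hsl := rfl
  ot := ot2
  big := 12
  hchk := q2u0
  hcnt := m2n0
theorem fix2 : ∀ s ∈ ([[0], [0, 1, 0, 1, 4]] : List (List Nat)), pwalk He2058.pt s 15 = 15 := by decide +kernel
noncomputable def reach3 : ReachData He2058.pt 2057 [[0], [0, 1, 0, 1, 4]] 34 4 where
  sl := sl3
  hsl := rfl
  ot := ot3
  big := 3
  hchk := q3u0
  hcnt := m3n0
theorem fix3 : ∀ s ∈ ([] : List (List Nat)), pwalk He2058.pt s 34 = 34 := by decide +kernel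
theorem yfix0 : ∀ i, i < 2058 → pwalk He2058.pt yl0.W i = i := fun i hi => fix_of_leaves' [yl0] 2058 y0u0 yl0.W (by simp) i hi

end Cfsg.Agent.Lib.Helper35.HeOrd.X0
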